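import Mathlib

/-!
# A shared helper for helper60's S3620 (Marggraf): multiply transitive groups realise every
injective map on a small finite set
-/

set_option autoImplicit false

namespace Cfsg.Agent.Helper47.Marg

open MulAction

/-- a `t`-transitive group realises every injective map defined on a set of at most `t` points -/
theorem exists_smul_eq_of_injOn {G : Type*} [Group G] {Ω : Type*} [MulAction G Ω] [Finite Ω]
    (t : ℕ) (ht : IsMultiplyPretransitive G Ω t) (htc : t ≤ Nat.card Ω) (s : Finset Ω)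
    (hs : s.card ≤ t) (f : Ω → Ω) (hf : Set.InjOn f (s : Set Ω)) :
    ∃ g : G, ∀ a ∈ s, g • a = f a := by
  haveI := ht
  have hk : IsMultiplyPretransitive G Ω s.card := isMultiplyPretransitive_of_le hs htc
  let x : Fin s.card ↪ Ω := s.equivFin.symm.toEmbedding.trans (Function.Embedding.subtype _)
  have hx : ∀ i, x i ∈ s := fun i => (s.equivFin.symm i).2
  let y : Fin s.card ↪ Ω := ⟨fun i => f (x i), by
    intro i j hij
    exact x.injective (hf (hx i) (hx j) hij)⟩
  obtain ⟨g, hg⟩ := (isMultiplyPretransitive_iff.1 hk) x y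
  refine ⟨g, fun a ha => ?_⟩
  have h1 : x (s.equivFin ⟨a, ha⟩) = a := by
    show ((s.equivFin.symm (s.equivFin ⟨a, ha⟩) : s) : Ω) = a
    rw [Equiv.symm_apply_apply]
  have h2 : g • x (s.equivFin ⟨a, ha⟩) = y (s.equivFin ⟨a, ha⟩) := by
    rw [← hg]
    rfl
  have h3 : y (s.equivFin ⟨a, ha⟩) = f a := by
    show f (x (s.equivFin ⟨a, ha⟩)) = f a
    rw [h1]
  rw [h1, h3] at h2
  exact h2

end Cfsg.Agent.Helper47.Marg
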