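import Mathlib
import Cfsg.Agent.Helper58.Marggraf
import Cfsg.Agent.Helper60.Marg.Defs
import Cfsg.Agent.Helper47.Marg.MT

/-!
# Pieces (B0), (B1), (B1') of helper60's plan for S3620 (board #8634): the translates of a set
under a multiply transitive group
-/

set_option autoImplicit false

namespace Cfsg.Agent.Helper47.Marg

open Cfsg.Agent.Helper60.Marg Cfsg.Agent.Helper58 MulAction

section grp

variable {G : Type*} [Group G] {Ω : Type*} [MulAction G Ω]

variable [Fintype Ω] [DecidableEq Ω]

/-- (B0) the translates have `m` points -/
theorem card_of_mem_translates (Γ : Set Ω) (T : Finset Ω) (hT : T ∈ translates G Γ) :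
    T.card = Γ.ncard := by
  obtain ⟨g, hg⟩ := (mem_translates Γ T).1 hT
  rw [← Set.ncard_coe_finset T, hg]
  have h1 : {z : Ω | g • z ∈ Γ} = (fun z => g⁻¹ • z) '' Γ := by
    ext z
    simp only [Set.mem_setOf_eq, Set.mem_image]
    constructor
    · intro hz
      exact ⟨g • z, hz, inv_smul_smul g z⟩
    · rintro ⟨w, hw, rfl⟩
      rw [smul_inv_smul]
      exact hw
  rw [h1, Set.ncard_image_of_injective Γ (MulAction.injective g⁻¹)]

/-- the image of a translate under an element of `G` is a translate -/
theorem image_mem_translates47 (Γ : Set Ω) (k : G) (T : Finset Ω) (hT : T ∈ translates G Γ) :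
    T.image (fun z => k • z) ∈ translates G Γ := by
  obtain ⟨h, hh⟩ := (mem_translates Γ T).1 hT
  rw [mem_translates]
  refine ⟨h * k⁻¹, ?_⟩
  ext z
  simp only [Finset.coe_image, Set.mem_image, Finset.mem_coe, Set.mem_setOf_eq]
  constructor
  · rintro ⟨w, hw, rfl⟩
    rw [mul_smul, inv_smul_smul]
    have : w ∈ (T : Set Ω) := hw
    rw [hh] at this
    exact this
  · intro hz
    refine ⟨k⁻¹ • z, ?_, smul_inv_smul k z⟩
    have : k⁻¹ • z ∈ (T : Set Ω) := by
      rw [hh]
      show h • k⁻¹ • z ∈ Γ
      rw [← mul_smul]
      exact hz
    exact this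

/-- an element fixing `A` pointwise maps the translates disjoint from `A` to translates disjoint
from `A` -/
theorem card_filter_TA_le47 (Γ : Set Ω) (A : Finset Ω) (P P' : Finset Ω → Prop)
    [DecidablePred P] [DecidablePred P'] (k : G) (hkA : ∀ a ∈ A, k • a = a)
    (hP : ∀ T : Finset Ω, P T → P' (T.image (fun z => k • z))) :
    ((TA (translates G Γ) A).filter P).card ≤ ((TA (translates G Γ) A).filter P').card := by
  apply Finset.card_le_card_of_injOn (fun T => T.image (fun z => k • z))
  · intro T hT
    have hT' := Finset.mem_filter.1 (Finset.mem_coe.1 hT)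
    have hT'' := Finset.mem_filter.1 hT'.1
    refine Finset.mem_coe.2 (Finset.mem_filter.2 ⟨Finset.mem_filter.2
      ⟨image_mem_translates47 Γ k T hT''.1, ?_⟩, hP T hT'.2⟩)
    rw [Finset.disjoint_left]
    intro z hz hzA
    obtain ⟨w, hw, rfl⟩ := Finset.mem_image.1 hz
    have h1 : k • (k • w) = k • w := hkA _ hzA
    have h2 : k • w = w := MulAction.injective k h1
    rw [h2] at hzA
    exact (Finset.disjoint_left.1 hT''.2) hw hzA
  · intro T _ T' _ h
    exact Finset.image_injective (MulAction.injective k) h

/-- (B1) -/
theorem translates_one (Γ : Set Ω) (t : ℕ) (ht : IsMultiplyPretransitive G Ω t)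
    (A : Finset Ω) (hA : A.card + 2 = t) (x x' : Ω) (hx : x ∉ A) (hx' : x' ∉ A) :
    ((TA (translates G Γ) A).filter (fun T => x ∈ T)).card =
      ((TA (translates G Γ) A).filter (fun T => x' ∈ T)).card := by
  by_cases hxx : x = x'
  · rw [hxx]
  -- `x ≠ x'`, so `Ω` has at least `t` points
  have htc : t ≤ Nat.card Ω := by
    rw [Nat.card_eq_fintype_card, ← Finset.card_univ]
    have h1 : (insert x (insert x' A)).card = t := by
      rw [Finset.card_insert_of_notMem, Finset.card_insert_of_notMem hx']
      · omega
      · intro h
        rcases Finset.mem_insert.1 h with h | h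
        · exact hxx h
        · exact hx h
    rw [← h1]
    exact Finset.card_le_card (Finset.subset_univ _)
  have key : ∀ u u' : Ω, u ∉ A → u' ∉ A →
      ((TA (translates G Γ) A).filter (fun T => u ∈ T)).card ≤
        ((TA (translates G Γ) A).filter (fun T => u' ∈ T)).card := by
    intro u u' hu hu'
    obtain ⟨k, hk⟩ := exists_smul_eq_of_injOn t ht htc (insert u A)
      (by rw [Finset.card_insert_of_notMem hu]; omega) (fun z => if z = u then u' else z) (by
        intro a ha b hb hab
        simp only [Finset.coe_insert, Set.mem_insert_iff, Finset.mem_coe] at ha hb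
        simp only at hab
        split_ifs at hab with h1 h2 h2
        · rw [h1, h2]
        · rcases hb with hb | hb
          · exact absurd hb h2
          · exact absurd (hab ▸ hb) hu'
        · rcases ha with ha | ha
          · exact absurd ha h1
          · exact absurd (hab ▸ ha) hu'
        · exact hab)
    have hkA : ∀ a ∈ A, k • a = a := by
      intro a ha
      have := hk a (Finset.mem_insert_of_mem ha)
      rw [if_neg (fun h : a = u => hu (h ▸ ha))] at this
      exact this
    have hku : k • u = u' := by
      have := hk u (Finset.mem_insert_self u A)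
      rw [if_pos rfl] at this
      exact this
    apply card_filter_TA_le47 Γ A _ _ k hkA
    intro T hT
    exact Finset.mem_image.2 ⟨u, hT, hku⟩
  exact le_antisymm (key x x' hx hx') (key x' x hx' hx)

/-- (B1') -/
theorem translates_two (Γ : Set Ω) (t : ℕ) (ht : IsMultiplyPretransitive G Ω t)
    (A : Finset Ω) (hA : A.card + 2 = t) (x y x' y' : Ω) (hx : x ∉ A) (hy : y ∉ A)
    (hx' : x' ∉ A) (hy' : y' ∉ A) (hxy : x ≠ y) (hxy' : x' ≠ y') :
    ((TA (translates G Γ) A).filter (fun T => x ∈ T ∧ y ∈ T)).card =
      ((TA (translates G Γ) A).filter (fun T => x' ∈ T ∧ y' ∈ T)).card := by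
  have hcard : ∀ u v : Ω, u ∉ A → v ∉ A → u ≠ v → (insert u (insert v A)).card = t := by
    intro u v hu hv huv
    rw [Finset.card_insert_of_notMem, Finset.card_insert_of_notMem hv]
    · omega
    · intro h
      rcases Finset.mem_insert.1 h with h | h
      · exact huv h
      · exact hu h
  have htc : t ≤ Nat.card Ω := by
    rw [Nat.card_eq_fintype_card, ← Finset.card_univ, ← hcard x y hx hy hxy]
    exact Finset.card_le_card (Finset.subset_univ _)
  have key : ∀ u v u' v' : Ω, u ∉ A → v ∉ A → u' ∉ A → v' ∉ A → u ≠ v → u' ≠ v' →
      ((TA (translates G Γ) A).filter (fun T => u ∈ T ∧ v ∈ T)).card ≤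
        ((TA (translates G Γ) A).filter (fun T => u' ∈ T ∧ v' ∈ T)).card := by
    intro u v u' v' hu hv hu' hv' huv huv'
    obtain ⟨k, hk⟩ := exists_smul_eq_of_injOn t ht htc (insert u (insert v A))
      (le_of_eq (hcard u v hu hv huv))
      (fun z => if z = u then u' else if z = v then v' else z) (by
        intro a ha b hb hab
        simp only [Finset.coe_insert, Set.mem_insert_iff, Finset.mem_coe] at ha hb
        simp only at hab
        have hAa : ∀ c, c ≠ u → c ≠ v → (c = u ∨ c = v ∨ c ∈ A) → c ∈ A := by
          intro c h1 h2 h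
          rcases h with h | h | h
          · exact absurd h h1
          · exact absurd h h2
          · exact h
        by_cases a1 : a = u
        · by_cases b1 : b = u
          · rw [a1, b1]
          · by_cases b2 : b = v
            · rw [if_pos a1, if_neg b1, if_pos b2] at hab
              exact absurd hab huv'
            · rw [if_pos a1, if_neg b1, if_neg b2] at hab
              exact absurd (hab ▸ hAa b b1 b2 hb) hu'
        · by_cases a2 : a = v
          · by_cases b1 : b = u
            · rw [if_neg a1, if_pos a2, if_pos b1] at hab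
              exact absurd hab.symm huv'
            · by_cases b2 : b = v
              · rw [a2, b2]
              · rw [if_neg a1, if_pos a2, if_neg b1, if_neg b2] at hab
                exact absurd (hab ▸ hAa b b1 b2 hb) hv'
          · by_cases b1 : b = u
            · rw [if_neg a1, if_neg a2, if_pos b1] at hab
              exact absurd (hab.symm ▸ hAa a a1 a2 ha) hu'
            · by_cases b2 : b = v
              · rw [if_neg a1, if_neg a2, if_neg b1, if_pos b2] at hab
                exact absurd (hab.symm ▸ hAa a a1 a2 ha) hv'
              · rw [if_neg a1, if_neg a2, if_neg b1, if_neg b2] at hab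
                exact hab)
    have hkA : ∀ a ∈ A, k • a = a := by
      intro a ha
      have := hk a (Finset.mem_insert_of_mem (Finset.mem_insert_of_mem ha))
      rw [if_neg (fun h : a = u => hu (h ▸ ha)), if_neg (fun h : a = v => hv (h ▸ ha))] at this
      exact this
    have hku : k • u = u' := by
      have := hk u (Finset.mem_insert_self u _)
      rw [if_pos rfl] at this
      exact this
    have hkv : k • v = v' := by
      have := hk v (Finset.mem_insert_of_mem (Finset.mem_insert_self v A))
      rw [if_neg (fun h => huv h.symm), if_pos rfl] at this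
      exact this
    apply card_filter_TA_le47 Γ A _ _ k hkA
    intro T hT
    exact ⟨Finset.mem_image.2 ⟨u, hT.1, hku⟩, Finset.mem_image.2 ⟨v, hT.2, hkv⟩⟩
  exact le_antisymm (key x y x' y' hx hy hx' hy' hxy hxy') (key x' y' x y hx' hy' hx hy hxy' hxy)

end grp

end Cfsg.Agent.Helper47.Marg
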