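import Mathlib
import Cfsg.Agent.Helper58.Marggraf
import Cfsg.Agent.Helper60.Marg.Defs

/-!
# Piece (CDC2) of helper60's plan for S3620 (board #8634): double counting of the pairs
(`t`-set of type `j`, block through it)
-/

set_option autoImplicit false

namespace Cfsg.Agent.Helper47.Marg

open Cfsg.Agent.Helper60.Marg Cfsg.Agent.Helper58 MulAction

section comb

variable {Ω : Type*} [DecidableEq Ω] [Fintype Ω]

/-- the number of `t`-sets meeting `Δ` in exactly `j` points -/
theorem card_filter_inter_card47 (Δ : Finset Ω) (t j : ℕ) (hj : j ≤ t) :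
    ((Finset.univ.powersetCard t).filter (fun X : Finset Ω => (X ∩ Δ).card = j)).card =
      Δ.card.choose j * Δᶜ.card.choose (t - j) := by
  have himg : (Finset.univ.powersetCard t).filter (fun X : Finset Ω => (X ∩ Δ).card = j) =
      ((Δ.powersetCard j) ×ˢ (Δᶜ.powersetCard (t - j))).image (fun PR => PR.1 ∪ PR.2) := by
    ext X
    simp only [Finset.mem_filter, Finset.mem_powersetCard, Finset.mem_image, Finset.mem_product,
      Prod.exists]
    constructor
    · rintro ⟨⟨-, hXc⟩, hXj⟩
      refine ⟨X ∩ Δ, X \ Δ, ⟨⟨Finset.inter_subset_right, hXj⟩, ⟨?_, ?_⟩⟩, ?_⟩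
      · intro w hw
        exact Finset.mem_compl.2 (Finset.mem_sdiff.1 hw).2
      · have := Finset.card_sdiff_add_card_inter X Δ
        omega
      · rw [Finset.union_comm]
        exact Finset.sdiff_union_inter X Δ
    · rintro ⟨P, R, ⟨⟨hPΔ, hPc⟩, ⟨hRΔ, hRc⟩⟩, rfl⟩
      have hdisj : Disjoint P R := by
        rw [Finset.disjoint_left]
        intro w hwP hwR
        exact (Finset.mem_compl.1 (hRΔ hwR)) (hPΔ hwP)
      have hPR : (P ∪ R) ∩ Δ = P := by
        ext w
        simp only [Finset.mem_inter, Finset.mem_union]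
        constructor
        · rintro ⟨hw | hw, hwΔ⟩
          · exact hw
          · exact absurd hwΔ (Finset.mem_compl.1 (hRΔ hw))
        · intro hw
          exact ⟨Or.inl hw, hPΔ hw⟩
      refine ⟨⟨Finset.subset_univ _, ?_⟩, ?_⟩
      · rw [Finset.card_union_of_disjoint hdisj, hPc, hRc]
        omega
      · rw [hPR, hPc]
  rw [himg, Finset.card_image_of_injOn, Finset.card_product, Finset.card_powersetCard,
    Finset.card_powersetCard]
  rintro ⟨P, R⟩ hPR ⟨P', R'⟩ hPR' heq
  simp only [Finset.coe_product, Set.mem_prod, Finset.mem_coe, Finset.mem_powersetCard] at hPR hPR'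
  obtain ⟨⟨hPΔ, -⟩, ⟨hRΔ, -⟩⟩ := hPR
  obtain ⟨⟨hP'Δ, -⟩, ⟨hR'Δ, -⟩⟩ := hPR'
  have heq' : P ∪ R = P' ∪ R' := heq
  have h1 : ∀ {A C : Finset Ω}, A ⊆ Δ → C ⊆ Δᶜ → (A ∪ C) ∩ Δ = A := by
    intro A C hA hC
    ext w
    simp only [Finset.mem_inter, Finset.mem_union]
    constructor
    · rintro ⟨hw | hw, hwΔ⟩
      · exact hw
      · exact absurd hwΔ (Finset.mem_compl.1 (hC hw))
    · intro hw
      exact ⟨Or.inl hw, hA hw⟩
  have h2 : ∀ {A C : Finset Ω}, A ⊆ Δ → C ⊆ Δᶜ → (A ∪ C) \ Δ = C := by
    intro A C hA hC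
    ext w
    simp only [Finset.mem_sdiff, Finset.mem_union]
    constructor
    · rintro ⟨hw | hw, hwΔ⟩
      · exact absurd (hA hw) hwΔ
      · exact hw
    · intro hw
      exact ⟨Or.inr hw, Finset.mem_compl.1 (hC hw)⟩
  have eP : P = P' := by
    rw [← h1 hPΔ hRΔ, heq', h1 hP'Δ hR'Δ]
  have eR : R = R' := by
    rw [← h2 hPΔ hRΔ, heq', h2 hP'Δ hR'Δ]
  rw [eP, eR]

/-- the `t`-subsets of a `(t+1)`-set `B` meeting `Δ` in exactly `j` points -/
theorem card_filter_subset_inter47 (B Δ : Finset Ω) (t j : ℕ) (hB : B.card = t + 1) :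
    ((Finset.univ.powersetCard t).filter
        (fun X : Finset Ω => (X ∩ Δ).card = j ∧ X ⊆ B)).card =
      (if (B ∩ Δ).card = j then t + 1 - j else 0) +
        (if (B ∩ Δ).card = j + 1 then j + 1 else 0) := by
  have himg : (Finset.univ.powersetCard t).filter
        (fun X : Finset Ω => (X ∩ Δ).card = j ∧ X ⊆ B) =
      (B.filter (fun b => ((B.erase b) ∩ Δ).card = j)).image (fun b => B.erase b) := by
    ext X
    simp only [Finset.mem_filter, Finset.mem_powersetCard, Finset.mem_image]
    constructor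
    · rintro ⟨⟨-, hXc⟩, hXj, hXB⟩
      have h1 : (B \ X).card = 1 := by
        rw [Finset.card_sdiff_of_subset hXB, hB, hXc]
        omega
      obtain ⟨b, hb⟩ := Finset.card_eq_one.1 h1
      have hbB : b ∈ B := by
        have : b ∈ B \ X := by rw [hb]; exact Finset.mem_singleton_self b
        exact (Finset.mem_sdiff.1 this).1
      have hX : B.erase b = X := by
        rw [← Finset.sdiff_singleton_eq_erase, ← hb, Finset.sdiff_sdiff_eq_self hXB]
      refine ⟨b, ⟨hbB, ?_⟩, hX⟩
      rw [hX]
      exact hXj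
    · rintro ⟨b, ⟨hbB, hbj⟩, rfl⟩
      refine ⟨⟨Finset.subset_univ _, ?_⟩, hbj, Finset.erase_subset b B⟩
      rw [Finset.card_erase_of_mem hbB, hB]
      rfl
  rw [himg, Finset.card_image_of_injOn]
  · -- count the points `b`
    have key : ∀ b ∈ B, ((B.erase b) ∩ Δ).card =
        if b ∈ Δ then (B ∩ Δ).card - 1 else (B ∩ Δ).card := by
      intro b hb
      rw [Finset.erase_inter]
      split_ifs with hbΔ
      · rw [Finset.card_erase_of_mem (Finset.mem_inter.2 ⟨hb, hbΔ⟩)]
      · rw [Finset.erase_eq_of_notMem (fun h => hbΔ (Finset.mem_inter.1 h).2)]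
    have hpos : ∀ b ∈ B, b ∈ Δ → 1 ≤ (B ∩ Δ).card := fun b hb hbΔ =>
      Finset.card_pos.2 ⟨b, Finset.mem_inter.2 ⟨hb, hbΔ⟩⟩
    have hsplit : (B \ Δ).card + (B ∩ Δ).card = B.card := Finset.card_sdiff_add_card_inter B Δ
    by_cases c1 : (B ∩ Δ).card = j
    · have c2 : ¬ (B ∩ Δ).card = j + 1 := by omega
      rw [if_pos c1, if_neg c2, add_zero]
      have hset : B.filter (fun b => ((B.erase b) ∩ Δ).card = j) = B \ Δ := by
        ext b
        simp only [Finset.mem_filter, Finset.mem_sdiff]
        constructor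
        · rintro ⟨hb, hbj⟩
          refine ⟨hb, fun hbΔ => ?_⟩
          rw [key b hb, if_pos hbΔ] at hbj
          have := hpos b hb hbΔ
          omega
        · rintro ⟨hb, hbΔ⟩
          refine ⟨hb, ?_⟩
          rw [key b hb, if_neg hbΔ, c1]
      rw [hset]
      omega
    · rw [if_neg c1, zero_add]
      by_cases c2 : (B ∩ Δ).card = j + 1
      · rw [if_pos c2]
        have hset : B.filter (fun b => ((B.erase b) ∩ Δ).card = j) = B ∩ Δ := by
          ext b
          simp only [Finset.mem_filter, Finset.mem_inter]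
          constructor
          · rintro ⟨hb, hbj⟩
            refine ⟨hb, ?_⟩
            by_contra hbΔ
            rw [key b hb, if_neg hbΔ] at hbj
            exact c1 hbj
          · rintro ⟨hb, hbΔ⟩
            refine ⟨hb, ?_⟩
            rw [key b hb, if_pos hbΔ, c2]
            rfl
        rw [hset, c2]
      · rw [if_neg c2]
        rw [Finset.card_eq_zero, Finset.filter_eq_empty_iff]
        intro b hb hbj
        rw [key b hb] at hbj
        split_ifs at hbj with hbΔ
        · have := hpos b hb hbΔ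
          omega
        · exact c1 hbj
  · intro b hb b' hb' heq
    rw [Finset.mem_coe, Finset.mem_filter] at hb hb'
    have heq' : B.erase b = B.erase b' := heq
    by_contra hne
    have h1 : b' ∈ B.erase b := Finset.mem_erase.2 ⟨fun h => hne h.symm, hb'.1⟩
    rw [heq'] at h1
    exact (Finset.notMem_erase b' B) h1

/-- (CDC2) double counting of the pairs (`t`-set of type `j`, block through it) -/
theorem stSys_count_eq {t m : ℕ} {Δ : Finset Ω} (S : StSys Ω t 2 Δ)
    (hn : Fintype.card Ω = 2 * m + 1) (hΔ : Δ.card = m + 1) (j : ℕ) (hj : j ≤ t) :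
    (t + 1 - j) * S.B j + (j + 1) * S.B (j + 1) = (m + 1).choose j * m.choose (t - j) := by
  have hΔc : Δᶜ.card = m := by
    rw [Finset.card_compl, hn, hΔ]
    omega
  have hcount := card_filter_inter_card47 Δ t j hj
  rw [hΔ, hΔc] at hcount
  rw [← hcount]
  -- fibres of `X ↦ Q X`
  have hmaps : ∀ X ∈ (Finset.univ.powersetCard t).filter
      (fun X : Finset Ω => (X ∩ Δ).card = j), S.Q X ∈ S.blocks := by
    intro X hX
    exact Finset.mem_image_of_mem _ (Finset.mem_filter.1 hX).1
  rw [Finset.card_eq_sum_card_fiberwise hmaps]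
  have hfib : ∀ B ∈ S.blocks,
      (((Finset.univ.powersetCard t).filter (fun X : Finset Ω => (X ∩ Δ).card = j)).filter
        (fun X => S.Q X = B)).card =
      (if (B ∩ Δ).card = j then t + 1 - j else 0) +
        (if (B ∩ Δ).card = j + 1 then j + 1 else 0) := by
    intro B hB
    obtain ⟨X₀, hX₀, rfl⟩ := Finset.mem_image.1 hB
    have hX₀c : X₀.card = t := (Finset.mem_powersetCard.1 hX₀).2
    have hBc : (S.Q X₀).card = t + 1 := by
      have := S.card X₀ hX₀c
      omega
    rw [← card_filter_subset_inter47 (S.Q X₀) Δ t j hBc, Finset.filter_filter]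
    congr 1
    apply Finset.filter_congr
    intro X hX
    have hXc : X.card = t := (Finset.mem_powersetCard.1 hX).2
    constructor
    · rintro ⟨h1, h2⟩
      exact ⟨h1, h2 ▸ S.sub X hXc⟩
    · rintro ⟨h1, h2⟩
      exact ⟨h1, S.eq X₀ X hX₀c hXc h2⟩
  rw [Finset.sum_congr rfl hfib, Finset.sum_add_distrib, Finset.sum_ite, Finset.sum_ite,
    Finset.sum_const_zero, Finset.sum_const_zero, add_zero, add_zero, Finset.sum_const,
    Finset.sum_const, smul_eq_mul, smul_eq_mul, mul_comm (t + 1 - j), mul_comm (j + 1)]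
  rfl

end comb

end Cfsg.Agent.Helper47.Marg
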