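import Mathlib
import Cfsg.Agent.Helper58.Marggraf
import Cfsg.Agent.Helper60.Marg.Defs

/-!
# Piece (CI2) of helper60's plan for S3620 (board #8634): the second inequality for the Steiner
system
-/

set_option autoImplicit false

namespace Cfsg.Agent.Helper47.Marg

open Cfsg.Agent.Helper60.Marg Cfsg.Agent.Helper58 MulAction

section comb

variable {Ω : Type*} [DecidableEq Ω] [Fintype Ω]

/-- (CI2) -/
theorem stSys_ineq_two {t e m : ℕ} {Δ : Finset Ω} (S : StSys Ω t e Δ)
    (hn : Fintype.card Ω = 2 * m + 1) (hΔ : Δ.card = m + 1) (ht4 : 4 ≤ t) (htm : t < m)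
    (he : 2 ≤ e) : (m + 3 - t) * (e - 1) ≤ m - 1 := by
  obtain ⟨A0, hA0Δ, hA0⟩ := Finset.exists_subset_card_eq (show t - 2 ≤ Δ.card by omega)
  obtain ⟨x, hx⟩ : ∃ x, x ∉ Δ := by
    by_contra hcon
    push Not at hcon
    have h1 : Δ = Finset.univ := Finset.eq_univ_iff_forall.2 hcon
    rw [h1, Finset.card_univ, hn] at hΔ
    omega
  set D : Finset Ω := Δ \ A0 with hD
  have hDcard : D.card = m + 3 - t := by
    rw [hD, Finset.card_sdiff_of_subset hA0Δ, hΔ, hA0]
    omega
  set X : Ω → Finset Ω := fun d => insert x (insert d A0) with hXdef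
  have hdΔ : ∀ d ∈ D, d ∈ Δ := fun d hd => (Finset.mem_sdiff.1 hd).1
  have hdA : ∀ d ∈ D, d ∉ A0 := fun d hd => (Finset.mem_sdiff.1 hd).2
  have hinsΔ : ∀ d ∈ D, insert d A0 ⊆ Δ := by
    intro d hd w hw
    rcases Finset.mem_insert.1 hw with rfl | hw
    · exact hdΔ _ hd
    · exact hA0Δ hw
  have hxins : ∀ d ∈ D, x ∉ insert d A0 := fun d hd h => hx (hinsΔ d hd h)
  have hXcard : ∀ d ∈ D, (X d).card = t := by
    intro d hd
    show (insert x (insert d A0)).card = t
    rw [Finset.card_insert_of_notMem (hxins d hd), Finset.card_insert_of_notMem (hdA d hd), hA0]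
    omega
  have hXΔ : ∀ d ∈ D, ((X d) ∩ Δ).card + 1 = t := by
    intro d hd
    have h1 : (X d) ∩ Δ = insert d A0 := by
      ext w
      constructor
      · intro hw
        have hw' := Finset.mem_inter.1 hw
        rcases Finset.mem_insert.1 hw'.1 with rfl | h2
        · exact absurd hw'.2 hx
        · exact h2
      · intro hw
        exact Finset.mem_inter.2 ⟨Finset.mem_insert_of_mem hw, hinsΔ d hd hw⟩
    rw [h1, Finset.card_insert_of_notMem (hdA d hd), hA0]
    omega
  set R : Ω → Finset Ω := fun d => S.Q (X d) \ X d with hRdef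
  have hRΔ : ∀ d ∈ D, Disjoint (R d) Δ := fun d hd => S.inΓ (X d) (hXcard d hd) (hXΔ d hd)
  have hRcard : ∀ d ∈ D, (R d).card = e - 1 := by
    intro d hd
    show (S.Q (X d) \ X d).card = e - 1
    rw [Finset.card_sdiff_of_subset (S.sub (X d) (hXcard d hd)), hXcard d hd]
    have := S.card (X d) (hXcard d hd)
    omega
  have hRsub : ∀ d ∈ D, R d ⊆ Δᶜ.erase x := by
    intro d hd z hz
    refine Finset.mem_erase.2 ⟨?_, ?_⟩
    · rintro rfl
      exact (Finset.mem_sdiff.1 hz).2 (Finset.mem_insert_self _ _)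
    · rw [Finset.mem_compl]
      exact fun hzΔ => (Finset.disjoint_left.1 (hRΔ d hd)) hz hzΔ
  have hRdisj : ∀ d ∈ D, ∀ d' ∈ D, d ≠ d' → Disjoint (R d) (R d') := by
    intro d hd d' hd' hdd'
    rw [Finset.disjoint_left]
    intro z hz hz'
    have hz1 := Finset.mem_sdiff.1 hz
    have hz2 := Finset.mem_sdiff.1 hz'
    -- the `t`-set `A0 ∪ {x, z}`
    have hzx : z ≠ x := fun h => hz1.2 (h ▸ Finset.mem_insert_self _ _)
    have hzA : z ∉ A0 := fun h =>
      hz1.2 (Finset.mem_insert_of_mem (Finset.mem_insert_of_mem h))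
    have hxA : x ∉ A0 := fun h => hx (hA0Δ h)
    set Y : Finset Ω := insert z (insert x A0) with hYdef
    have hYcard : Y.card = t := by
      rw [hYdef, Finset.card_insert_of_notMem, Finset.card_insert_of_notMem hxA, hA0]
      · omega
      · intro h
        rcases Finset.mem_insert.1 h with h | h
        · exact hzx h
        · exact hzA h
    have hYd : ∀ d₀ ∈ D, z ∈ S.Q (X d₀) → Y ⊆ S.Q (X d₀) := by
      intro d₀ hd₀ hzQ w hw
      rcases Finset.mem_insert.1 hw with rfl | hw
      · exact hzQ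
      · apply S.sub (X d₀) (hXcard d₀ hd₀)
        rcases Finset.mem_insert.1 hw with rfl | hw
        · exact Finset.mem_insert_self _ _
        · exact Finset.mem_insert_of_mem (Finset.mem_insert_of_mem hw)
    have e1 : S.Q Y = S.Q (X d) := S.eq _ _ (hXcard d hd) hYcard (hYd d hd hz1.1)
    have e2 : S.Q Y = S.Q (X d') := S.eq _ _ (hXcard d' hd') hYcard (hYd d' hd' hz2.1)
    -- `d'` lies in `Q (X d)` but not in `X d`
    have h3 : d' ∈ S.Q (X d) := by
      rw [← e1, e2]
      exact S.sub (X d') (hXcard d' hd') (Finset.mem_insert_of_mem (Finset.mem_insert_self _ _))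
    have h4 : d' ∉ X d := by
      intro h
      rcases Finset.mem_insert.1 h with h | h
      · exact hx (h ▸ hdΔ d' hd')
      · rcases Finset.mem_insert.1 h with h | h
        · exact hdd' h.symm
        · exact hdA d' hd' h
    have h5 : d' ∈ R d := Finset.mem_sdiff.2 ⟨h3, h4⟩
    exact (Finset.disjoint_left.1 (hRΔ d hd)) h5 (hdΔ d' hd')
  have hsub : D.biUnion R ⊆ Δᶜ.erase x := by
    intro z hz
    obtain ⟨d, hd, hzd⟩ := Finset.mem_biUnion.1 hz
    exact hRsub d hd hzd
  have hcard : (D.biUnion R).card = (m + 3 - t) * (e - 1) := by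
    rw [Finset.card_biUnion hRdisj, Finset.sum_congr rfl hRcard, Finset.sum_const, hDcard,
      smul_eq_mul]
  have hright : (Δᶜ.erase x).card = m - 1 := by
    rw [Finset.card_erase_of_mem (Finset.mem_compl.2 hx), Finset.card_compl, hn, hΔ]
    omega
  have hle := Finset.card_le_card hsub
  rw [hcard, hright] at hle
  exact hle

end comb

end Cfsg.Agent.Helper47.Marg
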