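import Mathlib
import Cfsg.Agent.Helper58.Marggraf
import Cfsg.Agent.Helper60.Marg.Defs

/-!
# Piece (CT) of helper60's plan for S3620 (board #8634): Tits' inequality for the Steiner system
-/

set_option autoImplicit false

namespace Cfsg.Agent.Helper47.Marg

open Cfsg.Agent.Helper60.Marg Cfsg.Agent.Helper58 MulAction

section comb

variable {Ω : Type*} [DecidableEq Ω] [Fintype Ω]

/-- Tits' counting argument inside a "closed" set `U` -/
theorem tits_aux {t e : ℕ} {Δ : Finset Ω} (S : StSys Ω t e Δ) (he : 2 ≤ e) (U : Finset Ω)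
    (X : Finset Ω) (hX : X.card = t) (p : Ω) (hp : p ∉ S.Q X) (hXU : X ⊆ U) (hpU : p ∈ U)
    (hU : ∀ Y : Finset Ω, Y.card = t → Y ⊆ insert p X → S.Q Y ⊆ U) :
    (t + 1) * e ≤ U.card := by
  have hpX : p ∉ X := fun h => hp (S.sub X hX h)
  set T : Finset Ω := insert p X with hT
  have hTcard : T.card = t + 1 := by rw [hT, Finset.card_insert_of_notMem hpX, hX]
  have hXT : X ⊆ T := Finset.subset_insert p X
  have hpT : p ∈ T := Finset.mem_insert_self p X
  -- `T` lies in no block
  have hNB : ∀ Y : Finset Ω, Y.card = t → ¬ T ⊆ S.Q Y := by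
    intro Y hY hTY
    have h1 : S.Q X = S.Q Y := S.eq Y X hY hX (hXT.trans hTY)
    exact hp (h1 ▸ hTY hpT)
  have hEc : ∀ x ∈ T, (T.erase x).card = t := by
    intro x hx
    rw [Finset.card_erase_of_mem hx, hTcard]
    rfl
  have hEsub : ∀ x ∈ T, T.erase x ⊆ S.Q (T.erase x) := fun x hx => S.sub _ (hEc x hx)
  -- `x ∉ B x`
  have hxB : ∀ x ∈ T, x ∉ S.Q (T.erase x) := by
    intro x hx hxQ
    apply hNB (T.erase x) (hEc x hx)
    intro w hw
    by_cases hwx : w = x
    · rw [hwx]
      exact hxQ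
    · exact hEsub x hx (Finset.mem_erase.2 ⟨hwx, hw⟩)
  -- two of the blocks meet inside `T`
  have hmeet : ∀ x ∈ T, ∀ y ∈ T, x ≠ y → ∀ z, z ∈ S.Q (T.erase x) → z ∈ S.Q (T.erase y) →
      z ∈ T := by
    intro x hx y hy hxy z hzx hzy
    by_contra hzT
    set Y : Finset Ω := insert z ((T.erase x).erase y) with hYdef
    have hyEx : y ∈ T.erase x := Finset.mem_erase.2 ⟨fun h => hxy h.symm, hy⟩
    have hzE : z ∉ (T.erase x).erase y := fun h =>
      hzT (Finset.mem_of_mem_erase (Finset.mem_of_mem_erase h))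
    have hYc : Y.card = t := by
      rw [hYdef, Finset.card_insert_of_notMem hzE, Finset.card_erase_of_mem hyEx, hEc x hx]
      have : 1 ≤ t := by
        have := Finset.card_pos.2 ⟨y, hyEx⟩
        rw [hEc x hx] at this
        exact this
      omega
    have hYx : Y ⊆ S.Q (T.erase x) := by
      intro w hw
      rcases Finset.mem_insert.1 hw with rfl | hw
      · exact hzx
      · exact hEsub x hx (Finset.mem_of_mem_erase hw)
    have hYy : Y ⊆ S.Q (T.erase y) := by
      intro w hw
      rcases Finset.mem_insert.1 hw with rfl | hw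
      · exact hzy
      · have h1 : w ∈ T.erase x := Finset.mem_of_mem_erase hw
        have h2 : w ≠ y := (Finset.mem_erase.1 hw).1
        exact hEsub y hy (Finset.mem_erase.2 ⟨h2, Finset.mem_of_mem_erase h1⟩)
    have e1 : S.Q Y = S.Q (T.erase x) := S.eq _ _ (hEc x hx) hYc hYx
    have e2 : S.Q Y = S.Q (T.erase y) := S.eq _ _ (hEc y hy) hYc hYy
    have h3 : y ∈ S.Q (T.erase x) := hEsub x hx hyEx
    rw [← e1, e2] at h3
    exact hxB y hy h3
  -- the counting
  set F : Ω → Finset Ω := fun x => S.Q (T.erase x) \ T with hF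
  have hFdisj : ∀ x ∈ T, ∀ y ∈ T, x ≠ y → Disjoint (F x) (F y) := by
    intro x hx y hy hxy
    rw [Finset.disjoint_left]
    intro z hzx hzy
    have h1 := Finset.mem_sdiff.1 hzx
    have h2 := Finset.mem_sdiff.1 hzy
    exact h1.2 (hmeet x hx y hy hxy z h1.1 h2.1)
  have hFcard : ∀ x ∈ T, (F x).card + 1 = e := by
    intro x hx
    have h1 : S.Q (T.erase x) ∩ T = T.erase x := by
      ext w
      constructor
      · intro hw
        have hw' := Finset.mem_inter.1 hw
        refine Finset.mem_erase.2 ⟨?_, hw'.2⟩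
        rintro rfl
        exact hxB w hx hw'.1
      · intro hw
        exact Finset.mem_inter.2 ⟨hEsub x hx hw, Finset.mem_of_mem_erase hw⟩
    have h2 : (S.Q (T.erase x) \ T).card + (S.Q (T.erase x) ∩ T).card = (S.Q (T.erase x)).card :=
      Finset.card_sdiff_add_card_inter _ _
    rw [h1, hEc x hx] at h2
    have h3 := S.card (T.erase x) (hEc x hx)
    show (S.Q (T.erase x) \ T).card + 1 = e
    omega
  have hTF : Disjoint T (T.biUnion F) := by
    rw [Finset.disjoint_left]
    intro z hzT hzF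
    obtain ⟨x, -, hzx⟩ := Finset.mem_biUnion.1 hzF
    exact (Finset.mem_sdiff.1 hzx).2 hzT
  have hsubU : T ∪ T.biUnion F ⊆ U := by
    intro z hz
    rcases Finset.mem_union.1 hz with hz | hz
    · rcases Finset.mem_insert.1 hz with rfl | hz
      · exact hpU
      · exact hXU hz
    · obtain ⟨x, hx, hzx⟩ := Finset.mem_biUnion.1 hz
      exact hU (T.erase x) (hEc x hx) (Finset.erase_subset x T) (Finset.mem_sdiff.1 hzx).1
  have hcard : (T ∪ T.biUnion F).card = (t + 1) + (t + 1) * (e - 1) := by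
    rw [Finset.card_union_of_disjoint hTF, Finset.card_biUnion hFdisj, hTcard]
    congr 1
    rw [Finset.sum_congr rfl (fun x hx => (by have := hFcard x hx; omega : (F x).card = e - 1)),
      Finset.sum_const, hTcard, smul_eq_mul]
  have hle := Finset.card_le_card hsubU
  rw [hcard] at hle
  have h4 : (t + 1) * e = (t + 1) + (t + 1) * (e - 1) := by
    obtain ⟨k, rfl⟩ : ∃ k, e = k + 1 := ⟨e - 1, by omega⟩
    simp only [Nat.add_sub_cancel]
    ring
  omega

/-- (CT) Tits' inequality, inside `Δ` or (if `Δ` is a single block) in `Ω` -/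
theorem stSys_tits {t e m : ℕ} {Δ : Finset Ω} (S : StSys Ω t e Δ)
    (hn : Fintype.card Ω = 2 * m + 1) (hΔ : Δ.card = m + 1) (ht4 : 4 ≤ t) (htm : t < m)
    (he : 2 ≤ e) : (t + 1) * e ≤ m + 1 ∨ (m + 2 = t + e ∧ (t + 1) * e ≤ 2 * m + 1) := by
  obtain ⟨X, hXΔ, hX⟩ := Finset.exists_subset_card_eq (show t ≤ Δ.card by omega)
  have hBΔ : S.Q X ⊆ Δ := S.inΔ X hX hXΔ
  have hBc := S.card X hX
  have hle := Finset.card_le_card hBΔ
  by_cases hcase : t + e = m + 2
  · right
    refine ⟨hcase.symm, ?_⟩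
    have hBeq : S.Q X = Δ := Finset.eq_of_subset_of_card_le hBΔ (by omega)
    obtain ⟨p, hp⟩ : ∃ p, p ∉ Δ := by
      by_contra hcon
      push Not at hcon
      have h1 : Δ = Finset.univ := Finset.eq_univ_iff_forall.2 hcon
      rw [h1, Finset.card_univ, hn] at hΔ
      omega
    have h2 := tits_aux S he Finset.univ X hX p (by rw [hBeq]; exact hp) (Finset.subset_univ _)
      (Finset.mem_univ _) (fun Y _ _ => Finset.subset_univ _)
    rw [Finset.card_univ, hn] at h2
    exact h2
  · left
    have hlt : (S.Q X).card < Δ.card := by omega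
    obtain ⟨p, hpΔ, hpB⟩ := Finset.exists_mem_notMem_of_card_lt_card hlt
    have h2 := tits_aux S he Δ X hX p hpB hXΔ hpΔ (fun Y hY hYT => S.inΔ Y hY (by
      intro w hw
      rcases Finset.mem_insert.1 (hYT hw) with rfl | hw'
      · exact hpΔ
      · exact hXΔ hw'))
    rw [hΔ] at h2
    exact h2

end comb

end Cfsg.Agent.Helper47.Marg
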